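import Groth.Agent.DeRhamSh.K853.HdRBasic
import Groth.Agent.DeRhamSh.K853.Terms
import Groth.Agent.Surf.K461.SerreLF
import Groth.Agent.ProjDual.K272.ExtPair
import Groth.Agent.Dual.H339.OmegaRank
import Groth.Agent.Krr.H495.ExtExist
import Groth.Agent.Sga67.LocBasisOps
import Groth.Agent.CurvesC.DegIso
import Groth.Agent.Fga.EulerLEAdd
import Groth.Agent.Fixpt.H904.FinCurve

/-!
# Symmetry of the Hodge numbers and of de Rham cohomology

`X` proper and smooth of relative dimension `n` over a field `k`: `h^b(Ω^a) = h^{n-b}(Ω^{n-a})` and the sums of the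
Hodge numbers over the lines `a + b = l`, `a + b = 2n - l` are the same (`sum_eq`).  Hence `H^q_dR` and `H^{2n-q}_dR`
are isomorphic if the Hodge to de Rham spectral sequence degenerates (`main`).
-/

set_option autoImplicit false
universe u

open CategoryTheory CategoryTheory.Limits AlgebraicGeometry TopologicalSpace

namespace K422.HodgeSym

open Groth.Agent

section Numbers

variable (k : Type u) [Field k] {X : Scheme.{u}} [X.Over (Spec (CommRingCat.of k))]
  [IsProper (X ↘ Spec (CommRingCat.of k))] (n : ℕ) [SmoothOfRelativeDimension n (X ↘ Spec (CommRingCat.of k))]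
  {Om : ℕ → X.Modules} (hOm : ∀ a, ExtPow.IsExtPow a (Omega.sheaf (X ↘ Spec (CommRingCat.of k))) (Om a))

include hOm

/-- Serre duality for the Hodge numbers. -/
theorem finrank_symm {a b : ℕ} (ha : a ≤ n) (hb : b ≤ n) :
    Module.finrank k (Coh.HH X (Om a) b) = Module.finrank k (Coh.HH X (Om (n - a)) (n - b)) := by
  have hΩ := Groth.Agent.Dual.H339.OmegaRank.isFinLocFreeOfRank_omega n (X ↘ Spec (CommRingCat.of k))
  have hΩ' : FlatMod.IsFinLocFree (Omega.sheaf (X ↘ Spec (CommRingCat.of k))) :=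
    Groth.Agent.Ega2.QCohLocal.isFinLocFree_of_rank hΩ
  have hLf : FlatMod.IsFinLocFree (Om a) := Groth.Agent.Sga67.LocBasis.isFinLocFree_of_isExtPow hΩ' (hOm a)
  obtain ⟨e⟩ := K272.ExtPair.nonempty_iso (Nat.add_sub_cancel' ha) hΩ (hOm a) (hOm (n - a)) (hOm n)
  rw [K461.SerreLF.finrank_eq k n (hOm n) hLf (n - b) b (Nat.sub_add_cancel hb)]
  exact Groth.Agent.CurvesC.DegIso.finrank_congr k
    ((Groth.Agent.Sga2.PnHomAdj.sheafHomIso (Om a)).app (Om n) ≪≫ e.symm) (n - b)

theorem isZero_of_lt {a : ℕ} (ha : n < a) : IsZero (Om a) := by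
  have hΩ := Groth.Agent.Dual.H339.OmegaRank.isFinLocFreeOfRank_omega n (X ↘ Spec (CommRingCat.of k))
  refine K853.Terms.isZero_of_isExtPow (fun x => ?_) (hOm a)
  obtain ⟨V, hxV, ⟨e⟩⟩ := hΩ x
  exact ⟨n, V, hxV, ha, ⟨e⟩⟩

theorem finrank_zero {a b : ℕ} (h : n < a ∨ n < b) : Module.finrank k (Coh.HH X (Om a) b) = 0 := by
  have : IsNoetherian X := K853.Terms.isNoetherian_of_field (X ↘ Spec (CommRingCat.of k))
  have hs : Subsingleton (Coh.HH X (Om a) b) := by
    rcases h with h | h
    · exact K853.Terms.subsingleton_HH_of_isZero (isZero_of_lt k n hOm h) b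
    · exact Groth.Agent.Fga.EulerLEAdd.subsingleton_HH X n
        (Groth.Agent.Fixpt.H904.FinCurve.topologicalKrullDim_le (X ↘ Spec (CommRingCat.of k)) n) (Om a) b h
  exact Module.finrank_zero_of_subsingleton

/-- The sums of the Hodge numbers over `a + b = l` and `a + b = 2n - l` agree. -/
theorem sum_eq {l l' : ℕ} (h : l + l' = 2 * n) :
    ∑ a ∈ Finset.range (l + 1), Module.finrank k (Coh.HH X (Om a) (l - a)) =
      ∑ a ∈ Finset.range (l' + 1), Module.finrank k (Coh.HH X (Om a) (l' - a)) := by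
  have hz : ∀ (m : ℕ) (a : ℕ), Module.finrank k (Coh.HH X (Om a) (m - a)) ≠ 0 → a ≤ n ∧ m - a ≤ n := by
    intro m a hne
    by_contra hcon
    apply hne
    apply finrank_zero k n hOm
    omega
  refine Finset.sum_bij_ne_zero (fun a _ _ => n - a) ?_ ?_ ?_ ?_
  · intro a ha hne
    obtain ⟨h1, h2⟩ := hz l a hne
    rw [Finset.mem_range] at ha ⊢
    omega
  · intro a ha hne b hb hne' hab
    obtain ⟨h1, h2⟩ := hz l a hne
    obtain ⟨h3, h4⟩ := hz l b hne'
    change n - a = n - b at hab
    omega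
  · intro b hb hne
    obtain ⟨h1, h2⟩ := hz l' b hne
    rw [Finset.mem_range] at hb
    have h3 : n - (n - b) = b := by omega
    have h4 : n - (l - (n - b)) = l' - b := by omega
    refine ⟨n - b, ?_, ?_, h3⟩
    · rw [Finset.mem_range]; omega
    · rw [finrank_symm k n hOm (by omega) (by omega), h3, h4]
      exact hne
  · intro a ha hne
    obtain ⟨h1, h2⟩ := hz l a hne
    rw [Finset.mem_range] at ha
    rw [finrank_symm k n hOm h1 h2]
    have h3 : n - (l - a) = l' - (n - a) := by omega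
    rw [h3]

end Numbers

/-- If the Hodge to de Rham spectral sequence of a proper smooth scheme of relative dimension `n` over a field
degenerates, `H^q_dR` and `H^{2n-q}_dR` are isomorphic. -/
theorem main (k : Type u) [Field k] (X : Scheme.{u})
    (f : X ⟶ Spec (CommRingCat.of k)) [IsProper f] (n : ℕ) [SmoothOfRelativeDimension n f]
    (D : DeRhamSh.OmegaCx f)
    [HasDerivedCategory.{u} (Sheaf (Opens.grothendieckTopology ↥X) AddCommGrpCat.{u})]
    (H : letI : X.Over (Spec (CommRingCat.of k)) := ⟨f⟩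
      ∀ l : ℕ, Nonempty (DeRhamSh.HdR D (l : ℤ) ≃+
      (Fin (∑ a ∈ Finset.range (l + 1), Module.finrank k (Coh.HH X (D.term a) (l - a))) → k)))
    (q : ℤ) :
    Nonempty (DeRhamSh.HdR D q ≃+ DeRhamSh.HdR D (2 * (n : ℤ) - q)) := by
  let _ : X.Over (Spec (CommRingCat.of k)) := ⟨f⟩
  have i1 : IsProper (X ↘ Spec (CommRingCat.of k)) := inferInstanceAs (IsProper f)
  have i2 : SmoothOfRelativeDimension n (X ↘ Spec (CommRingCat.of k)) :=
    inferInstanceAs (SmoothOfRelativeDimension n f)
  have : IsNoetherian X := K853.Terms.isNoetherian_of_field f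
  have hOm : ∀ a, ExtPow.IsExtPow a (Omega.sheaf (X ↘ Spec (CommRingCat.of k))) (D.term a) := fun a => D.isExtPow a
  have hvan : ∀ m : ℤ, (m < 0 ∨ 2 * (n : ℤ) < m) → Subsingleton (DeRhamSh.HdR D m) := by
    intro m hm
    refine K853.HdRBasic.hdR_subsingleton D m fun p j hpj => ?_
    by_cases hp : n < p
    · exact K853.Terms.subsingleton_HH_of_isZero (isZero_of_lt k n hOm hp) j
    · exact Groth.Agent.Fga.EulerLEAdd.subsingleton_HH X n
        (Groth.Agent.Fixpt.H904.FinCurve.topologicalKrullDim_le f n) (D.term p) j (by omega)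
  by_cases hq : q < 0 ∨ 2 * (n : ℤ) < q
  · have h1 := hvan q hq
    have h2 := hvan (2 * (n : ℤ) - q) (by omega)
    exact ⟨{ toFun := fun _ => 0
             invFun := fun _ => 0
             left_inv := fun _ => Subsingleton.elim _ _
             right_inv := fun _ => Subsingleton.elim _ _
             map_add' := fun _ _ => Subsingleton.elim _ _ }⟩
  · obtain ⟨l, rfl⟩ : ∃ l : ℕ, q = l := ⟨q.toNat, by omega⟩
    obtain ⟨l', hl'⟩ : ∃ l' : ℕ, 2 * (n : ℤ) - l = l' := ⟨(2 * (n : ℤ) - l).toNat, by omega⟩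
    obtain ⟨e⟩ := H l
    obtain ⟨e'⟩ := H l'
    rw [hl']
    have hs := sum_eq k n hOm (l := l) (l' := l') (by omega)
    rw [← hs] at e'
    exact ⟨e.trans e'.symm⟩

end K422.HodgeSym
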